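import Groth.Agent.DCohLib.ProjClosed
import Groth.Agent.S0484
import Mathlib.CategoryTheory.Adjunction.AdjointFunctorTheorems
import Mathlib.CategoryTheory.Abelian.Basic
import Mathlib.CategoryTheory.Limits.Preserves.Finite

/-!
# Direct image along a closed immersion is a left adjoint
-/

set_option autoImplicit false
set_option linter.style.haveILetI false

universe u

open CategoryTheory CategoryTheory.Limits AlgebraicGeometry TopologicalSpace
attribute [local instance] HasDerivedCategory.standard

noncomputable section

namespace Groth.Agent.Dual3Lib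

open Groth.Agent.DCohLib

variable {X Y : Scheme.{u}} (i : X ⟶ Y) [IsClosedImmersion i]

theorem suppOn_coproduct {J : Type u} (f : J → X.Modules)
    (c : Cofan fun j => (Scheme.Modules.pushforward i).obj (f j)) (hc : IsColimit c) : SuppOn i c.pt where
  subsingleton y hy := by
    haveI : PreservesColimitsOfSize.{u, u} (stkF y) := (stalkSkyAdj y).leftAdjoint_preservesColimits
    have h0 : 𝟙 ((stkF y).obj c.pt) = 0 := (isColimitOfPreserves (stkF y) hc).hom_ext fun ⟨j⟩ =>
      IsZero.eq_of_src (ModuleCat.isZero_iff_subsingleton.2
        (subsingleton_stalk_pushforward i (f j) y hy)) _ _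
    exact ModuleCat.subsingleton_of_isZero ((IsZero.iff_id_eq_zero _).2 h0)
  smul_eq_zero x a ha z := by
    haveI : PreservesColimitsOfSize.{u, u} (stkF (i x)) := (stalkSkyAdj (i x)).leftAdjoint_preservesColimits
    have h0 : a • 𝟙 ((stkF (i x)).obj c.pt) = 0 := (isColimitOfPreserves (stkF (i x)) hc).hom_ext fun ⟨j⟩ => by
      refine ModuleCat.hom_ext (LinearMap.ext fun w => ?_)
      show a • ((stkF (i x)).map (c.inj j)).hom w = 0
      rw [← map_smul]
      exact (congrArg _ ((suppOn_pushforward i (f j)).smul_eq_zero x a ha w)).trans (map_zero _)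
    exact congr($(h0).hom z)

theorem preservesCoproduct_pushforward {J : Type u} (f : J → X.Modules) :
    PreservesColimit (Discrete.functor f) (Scheme.Modules.pushforward i) := by
  let G := Scheme.Modules.pushforward i
  let F := Scheme.Modules.pullback i
  let adj := Scheme.Modules.pullbackPushforwardAdjunction i
  haveI : PreservesColimitsOfSize.{u, u} F := adj.leftAdjoint_preservesColimits
  let S := ∐ fun j => G.obj (f j)
  haveI : IsIso (adj.unit.app S) := isIso_unit_of_suppOn i
    (suppOn_coproduct i f (Cofan.mk S (Sigma.ι _)) (coproductIsCoproduct _))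
  haveI : ∀ j, IsIso (adj.counit.app (f j)) := fun j => isIso_counit_closedImmersion i (f j)
  let e : F.obj S ≅ ∐ f :=
    PreservesCoproduct.iso F _ ≪≫ Sigma.mapIso fun j => asIso (adj.counit.app (f j))
  have hs : sigmaComparison G f = adj.unit.app S ≫ G.map e.hom := by
    refine Sigma.hom_ext _ _ fun j => ?_
    have he : F.map (Sigma.ι (fun j => G.obj (f j)) j) ≫ e.hom = adj.counit.app (f j) ≫ Sigma.ι f j := by
      simp only [e, S, Iso.trans_hom]
      rw [← ι_comp_sigmaComparison, Category.assoc, ← PreservesCoproduct.inv_hom, Iso.inv_hom_id_assoc]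
      exact Sigma.ι_mapIso_hom _ j
    rw [ι_comp_sigmaComparison]
    refine Eq.trans ?_ (Category.assoc _ _ _)
    rw [show Sigma.ι (fun j => G.obj (f j)) j ≫ adj.unit.app S =
      adj.unit.app (G.obj (f j)) ≫ G.map (F.map (Sigma.ι (fun j => G.obj (f j)) j)) from
        adj.unit.naturality _, Category.assoc, ← G.map_comp, he, G.map_comp, ← Category.assoc,
      adj.right_triangle_components, Category.id_comp]
  haveI : IsIso (sigmaComparison G f) := hs ▸ inferInstance
  exact PreservesCoproduct.of_iso_comparison G f

theorem isLeftAdjoint_pushforward : (Scheme.Modules.pushforward i).IsLeftAdjoint := by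
  haveI : IsGrothendieckAbelian.{u} X.Modules :=
    Groth.Agent.S0484.result (Opens.grothendieckTopology X) X.ringCatSheaf
  haveI : ∀ J : Type u, PreservesColimitsOfShape (Discrete J) (Scheme.Modules.pushforward i) := fun J =>
    ⟨fun {K} =>
      haveI := preservesCoproduct_pushforward i (K.obj ∘ Discrete.mk)
      preservesColimit_of_iso_diagram _ (Discrete.natIsoFunctor (F := K)).symm⟩
  haveI : PreservesColimitsOfSize.{u, u} (Scheme.Modules.pushforward i) :=
    preservesColimits_of_preservesCoequalizers_and_coproducts _
  let G : X.Modules := separator X.Modules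
  exact isLeftAdjoint_of_preservesColimits_of_isSeparating (P := ObjectProperty.singleton G)
    (isSeparator_separator X.Modules) _

end Groth.Agent.Dual3Lib
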